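import Mathlib
import Groth.Prelude.Def_GrLC
import Groth.Agent.CycCovLib.Regular
import Groth.Agent.S0564

/-!
Dehomogenisation `R ⧸ (t - 1)` of a regular graded ring by a homogeneous unit, and the root
extension `R[U]/(U ^ N - t)`.
-/

open DirectSum
open scoped LaurentPolynomial

namespace Groth.Agent.GrRegLib

universe u

variable {R : Type u} [CommRing R] (𝒜 : ℤ → AddSubgroup R) [GradedRing 𝒜]

/-- A unit in degree `N` has its inverse in degree `-N`. -/
theorem inv_mem (t : Rˣ) (N : ℤ) (ht : (t : R) ∈ 𝒜 N) : ((t⁻¹ : Rˣ) : R) ∈ 𝒜 (-N) := by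
  classical
  have h := DirectSum.coe_decompose_mul_add_of_left_mem 𝒜 (b := ((t⁻¹ : Rˣ) : R)) (j := -N) ht
  rw [Units.mul_inv, add_neg_cancel,
    DirectSum.decompose_of_mem_same 𝒜 SetLike.GradedOne.one_mem] at h
  have : ((t⁻¹ : Rˣ) : R) = (decompose 𝒜 ((t⁻¹ : Rˣ) : R) (-N) : R) := by
    conv_lhs => rw [← mul_one ((t⁻¹ : Rˣ) : R), h, ← mul_assoc, Units.inv_mul, one_mul]
  rw [this]
  exact SetLike.coe_mem _

theorem zpow_mem (t : Rˣ) (N : ℤ) (ht : (t : R) ∈ 𝒜 N) (z : ℤ) : ((t ^ z : Rˣ) : R) ∈ 𝒜 (z * N) := by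
  have hn : ∀ (s : Rˣ) (M : ℤ), (s : R) ∈ 𝒜 M → ∀ n : ℕ, ((s ^ n : Rˣ) : R) ∈ 𝒜 (n * M) := by
    intro s M hs n
    have h := SetLike.pow_mem_graded n hs
    rwa [nsmul_eq_mul, ← Units.val_pow_eq_pow_val] at h
  rcases z with n | n
  · simpa using hn t N ht n
  · have h := hn t⁻¹ (-N) (inv_mem 𝒜 t N ht) (n + 1)
    rw [zpow_negSucc, ← inv_pow]
    rw [show (Int.negSucc n) * N = ((n + 1 : ℕ) : ℤ) * -N by rw [Int.negSucc_eq]; push_cast; ring]
    exact h

/-- The dehomogenised degree-zero part of an element of degree `q N`. -/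
def normElt (t : Rˣ) (N : ℤ) (ht : (t : R) ∈ 𝒜 N) (i q : ℤ) (hiq : i = q * N) (a : 𝒜 i) :
    GrLC.deg0 𝒜 :=
  ⟨(a : R) * ((t ^ (-q) : Rˣ) : R), by
    have h := SetLike.GradedMul.mul_mem a.2 (zpow_mem 𝒜 t N ht (-q))
    rw [show i + -q * N = 0 by rw [hiq]; ring] at h
    exact h⟩

/-- The standing hypotheses: `t` is a unit of degree `N > 0`, all units have degree divisible by
`N`. -/
structure Data where
  /-- the unit -/
  t : Rˣ
  /-- its degree -/
  N : ℕ
  hN : 0 < N
  ht : (t : R) ∈ 𝒜 (N : ℤ)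
  hnu : ∀ i : ℤ, ¬ (N : ℤ) ∣ i → ∀ a ∈ 𝒜 i, ¬ IsUnit a

variable {𝒜} [IsLocalRing (GrLC.deg0 𝒜)] (D : Data 𝒜)

/-- The residue field of the degree-zero ring. -/
abbrev Kres (_D : Data 𝒜) : Type u := IsLocalRing.ResidueField (GrLC.deg0 𝒜)

/-- The unit `1 + ε`. -/
noncomputable def onePlusEps (K : Type u) [CommRing K] : (DualNumber K)ˣ where
  val := 1 + DualNumber.eps
  inv := 1 - DualNumber.eps
  val_inv := by ring_nf; simp [pow_two, DualNumber.eps_mul_eps]
  inv_val := by ring_nf; simp [pow_two, DualNumber.eps_mul_eps]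

open Classical in
/-- On degree `i`: `a ↦ res (a t^(-i/N)) (1 + ε)^(i/N)`, zero if `N` does not divide `i`. -/
noncomputable def compHom (i : ℤ) : 𝒜 i →+ DualNumber (Kres D) :=
  if h : (D.N : ℤ) ∣ i then
    { toFun := fun a => TrivSqZeroExt.inl (IsLocalRing.residue _
        (normElt 𝒜 D.t D.N D.ht i (i / D.N) (Int.ediv_mul_cancel h).symm a)) *
          ((onePlusEps (Kres D) ^ (i / (D.N : ℤ)) : (DualNumber (Kres D))ˣ) : DualNumber (Kres D))
      map_zero' := by
        have : normElt 𝒜 D.t D.N D.ht i (i / D.N) (Int.ediv_mul_cancel h).symm 0 = 0 :=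
          Subtype.ext (zero_mul _)
        rw [this, map_zero, TrivSqZeroExt.inl_zero, zero_mul]
      map_add' := fun a b => by
        have : normElt 𝒜 D.t D.N D.ht i (i / D.N) (Int.ediv_mul_cancel h).symm (a + b) =
            normElt 𝒜 D.t D.N D.ht i (i / D.N) (Int.ediv_mul_cancel h).symm a +
            normElt 𝒜 D.t D.N D.ht i (i / D.N) (Int.ediv_mul_cancel h).symm b :=
          Subtype.ext (add_mul _ _ _)
        rw [this, map_add, TrivSqZeroExt.inl_add, add_mul] }
  else 0

theorem compHom_pos (i q : ℤ) (hiq : i = q * D.N) (a : 𝒜 i) :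
    compHom D i a = TrivSqZeroExt.inl (IsLocalRing.residue _
        (normElt 𝒜 D.t D.N D.ht i q hiq a)) *
      ((onePlusEps (Kres D) ^ q : (DualNumber (Kres D))ˣ) : DualNumber (Kres D)) := by
  have hN : (D.N : ℤ) ≠ 0 := by have := D.hN; omega
  have hq : q = i / D.N := by rw [hiq, Int.mul_ediv_cancel _ hN]
  subst hq
  rw [compHom, dif_pos (Dvd.intro_left _ hiq.symm)]
  rfl

theorem compHom_neg (i : ℤ) (hi : ¬ (D.N : ℤ) ∣ i) (a : 𝒜 i) : compHom D i a = 0 := by
  rw [compHom, dif_neg hi]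
  rfl

theorem compHom_one : compHom D 0 (GradedMonoid.GOne.one (A := fun i => 𝒜 i)) = 1 := by
  rw [compHom_pos D 0 0 (zero_mul _).symm]
  have : normElt 𝒜 D.t D.N D.ht 0 0 (zero_mul _).symm (GradedMonoid.GOne.one (A := fun i => 𝒜 i)) = 1 :=
    Subtype.ext (by simp [normElt])
  rw [this, map_one, TrivSqZeroExt.inl_one, zpow_zero, Units.val_one, one_mul]

theorem compHom_mul {i j : ℤ} (a : 𝒜 i) (b : 𝒜 j) :
    compHom D (i + j) (GradedMonoid.GMul.mul (A := fun i => 𝒜 i) a b) = compHom D i a * compHom D j b := by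
  by_cases hi : (D.N : ℤ) ∣ i
  · obtain ⟨q, hq⟩ := hi
    by_cases hj : (D.N : ℤ) ∣ j
    · obtain ⟨r, hr⟩ := hj
      rw [compHom_pos D i q (by rw [hq, mul_comm]), compHom_pos D j r (by rw [hr, mul_comm]),
        compHom_pos D (i + j) (q + r) (by rw [hq, hr]; ring)]
      have : normElt 𝒜 D.t D.N D.ht (i + j) (q + r) (by rw [hq, hr]; ring)
          (GradedMonoid.GMul.mul (A := fun i => 𝒜 i) a b) =
          normElt 𝒜 D.t D.N D.ht i q (by rw [hq, mul_comm]) a *
            normElt 𝒜 D.t D.N D.ht j r (by rw [hr, mul_comm]) b := by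
        refine Subtype.ext ?_
        show ((a : R) * b) * _ = ((a : R) * _) * ((b : R) * _)
        rw [neg_add, zpow_add, Units.val_mul]
        ring
      rw [this, map_mul, TrivSqZeroExt.inl_mul, zpow_add, Units.val_mul]
      ring
    · rw [compHom_neg D j hj, mul_zero, compHom_neg D (i + j) fun h => hj ((dvd_add_right ⟨q, hq⟩).mp h)]
  · rw [compHom_neg D i hi, zero_mul]
    by_cases hij : (D.N : ℤ) ∣ i + j
    · obtain ⟨s, hs⟩ := hij
      rw [compHom_pos D (i + j) s (by rw [hs, mul_comm])]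
      have : IsLocalRing.residue _ (normElt 𝒜 D.t D.N D.ht (i + j) s (by rw [hs, mul_comm])
          (GradedMonoid.GMul.mul (A := fun i => 𝒜 i) a b)) = 0 := by
        rw [IsLocalRing.residue_eq_zero_iff, IsLocalRing.mem_maximalIdeal, mem_nonunits_iff]
        intro hu
        refine D.hnu i hi a a.2 ?_
        have h1 := hu.map (GrLC.deg0 𝒜).subtype
        change IsUnit (((a : R) * b) * _) at h1
        exact isUnit_of_mul_isUnit_left (isUnit_of_mul_isUnit_left h1)
      rw [this, TrivSqZeroExt.inl_zero, zero_mul]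
    · rw [compHom_neg D (i + j) hij]

/-- The ring map `R → k[ε]`. -/
noncomputable def toDual : R →+* DualNumber (Kres D) :=
  (DirectSum.toSemiring (compHom D) (compHom_one D) (fun a b => compHom_mul D a b)).comp
    (DirectSum.decomposeRingEquiv 𝒜).toRingHom

theorem toDual_of_mem (i : ℤ) (a : R) (ha : a ∈ 𝒜 i) : toDual D a = compHom D i ⟨a, ha⟩ := by
  rw [toDual, RingHom.comp_apply]
  erw [DirectSum.decompose_of_mem 𝒜 ha, DirectSum.toSemiring_of]

theorem toDual_t : toDual D (D.t : R) = 1 + DualNumber.eps := by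
  rw [toDual_of_mem D D.N _ D.ht, compHom_pos D D.N 1 (one_mul _).symm, zpow_one]
  have : normElt 𝒜 D.t D.N D.ht D.N 1 (one_mul _).symm ⟨_, D.ht⟩ = 1 :=
    Subtype.ext (by simp [normElt])
  rw [this, map_one, TrivSqZeroExt.inl_one, one_mul]
  rfl

theorem toDual_deg0 (c : GrLC.deg0 𝒜) :
    toDual D (c : R) = TrivSqZeroExt.inl (IsLocalRing.residue _ c) := by
  rw [toDual_of_mem D 0 _ c.2, compHom_pos D 0 0 (zero_mul _).symm]
  have : normElt 𝒜 D.t D.N D.ht 0 0 (zero_mul _).symm ⟨(c : R), c.2⟩ = c :=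
    Subtype.ext (by simp [normElt])
  rw [this, zpow_zero, Units.val_one, mul_one]

/-- The residue map of `R` at the point `t = 1`. -/
noncomputable def ev1 : R →+* Kres D :=
  (TrivSqZeroExt.fstHom (Kres D) (Kres D) (Kres D)).toRingHom.comp (toDual D)

/-- The dehomogenised ring. -/
abbrev Quot1 : Type u := R ⧸ Ideal.span {(D.t : R) - 1}

/-- Powers of `t` become `1`. -/
theorem mk_zpow (z : ℤ) : Ideal.Quotient.mk (Ideal.span {(D.t : R) - 1}) ((D.t ^ z : Rˣ) : R) = 1 := by
  have h1 : Units.map (Ideal.Quotient.mk (Ideal.span {(D.t : R) - 1})).toMonoidHom D.t = 1 := by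
    refine Units.ext ?_
    show Ideal.Quotient.mk _ (D.t : R) = 1
    rw [← map_one (Ideal.Quotient.mk (Ideal.span {(D.t : R) - 1})), Ideal.Quotient.eq]
    exact Ideal.mem_span_singleton_self _
  have h2 := congrArg Units.val (map_zpow (Units.map (Ideal.Quotient.mk
    (Ideal.span {(D.t : R) - 1})).toMonoidHom) D.t z)
  rw [h1, one_zpow] at h2
  exact h2

theorem span_le_ker : Ideal.span {(D.t : R) - 1} ≤ RingHom.ker (ev1 D) := by
  rw [Ideal.span_singleton_le_iff_mem, RingHom.mem_ker, ev1, RingHom.comp_apply, map_sub, map_one,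
    toDual_t, add_sub_cancel_left]
  rfl

/-- The residue map of the dehomogenised ring. -/
noncomputable def evQ : Quot1 D →+* Kres D :=
  Ideal.Quotient.lift _ (ev1 D) fun _ hx => span_le_ker D hx

theorem evQ_surjective : Function.Surjective (evQ D) := by
  intro k
  obtain ⟨c, rfl⟩ := IsLocalRing.residue_surjective k
  refine ⟨Ideal.Quotient.mk _ (c : R), ?_⟩
  rw [evQ, Ideal.Quotient.lift_mk, ev1, RingHom.comp_apply, toDual_deg0]
  rfl

theorem ker_evQ_le (Q : Ideal (Quot1 D)) [Q.IsMaximal] : RingHom.ker (evQ D) ≤ Q := by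
  classical
  let ψ := Ideal.Quotient.mk (Ideal.span {(D.t : R) - 1})
  let φ : GrLC.deg0 𝒜 →+* Quot1 D := ψ.comp (GrLC.deg0 𝒜).subtype
  have hpow : ∀ (i : ℤ) (a : 𝒜 i), ∃ c : GrLC.deg0 𝒜, φ c = ψ (a : R) ^ D.N ∧
      (¬ (D.N : ℤ) ∣ i → c ∈ IsLocalRing.maximalIdeal (GrLC.deg0 𝒜)) := by
    intro i a
    have hm : (a : R) ^ D.N ∈ 𝒜 (i * D.N) := by
      have h := SetLike.pow_mem_graded D.N a.2
      rwa [nsmul_eq_mul, mul_comm] at h
    refine ⟨normElt 𝒜 D.t D.N D.ht _ i rfl ⟨_, hm⟩, ?_, fun hi => ?_⟩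
    · show ψ ((a : R) ^ D.N * _) = _
      rw [map_mul, mk_zpow, mul_one, map_pow]
    · rw [IsLocalRing.mem_maximalIdeal, mem_nonunits_iff]
      intro hu
      have h1 := hu.map (GrLC.deg0 𝒜).subtype
      change IsUnit ((a : R) ^ D.N * _) at h1
      exact D.hnu i hi a a.2 ((isUnit_pow_iff D.hN.ne').mp (isUnit_of_mul_isUnit_left h1))
  have hint : φ.IsIntegral := by
    intro x
    obtain ⟨x, rfl⟩ := Ideal.Quotient.mk_surjective x
    rw [← DirectSum.sum_support_decompose 𝒜 x, map_sum]
    letI := φ.toAlgebra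
    refine IsIntegral.sum _ fun i _ => ?_
    obtain ⟨c, hc, -⟩ := hpow i (decompose 𝒜 x i)
    refine IsIntegral.of_pow D.hN ?_
    rw [← hc]
    exact isIntegral_algebraMap (A := Quot1 D) (x := c)
  have hQm : Q.comap φ = IsLocalRing.maximalIdeal (GrLC.deg0 𝒜) :=
    IsLocalRing.eq_maximalIdeal (Ideal.isMaximal_comap_of_isIntegral_of_isMaximal' φ hint Q)
  intro y hy
  obtain ⟨x, rfl⟩ := Ideal.Quotient.mk_surjective y
  rw [RingHom.mem_ker, evQ, Ideal.Quotient.lift_mk] at hy
  let r : ℤ → GrLC.deg0 𝒜 := fun i => if h : (D.N : ℤ) ∣ i then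
    normElt 𝒜 D.t D.N D.ht i (i / D.N) (Int.ediv_mul_cancel h).symm (decompose 𝒜 x i) else 0
  have hterm : ∀ i, ψ (decompose 𝒜 x i : R) - φ (r i) ∈ Q := by
    intro i
    by_cases h : (D.N : ℤ) ∣ i
    · have : φ (r i) = ψ (decompose 𝒜 x i : R) := by
        simp only [r, dif_pos h]
        show ψ ((decompose 𝒜 x i : R) * _) = _
        rw [map_mul, mk_zpow, mul_one]
      rw [this, sub_self]
      exact Q.zero_mem
    · simp only [r, dif_neg h, map_zero, sub_zero]
      obtain ⟨c, hc, hcm⟩ := hpow i (decompose 𝒜 x i)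
      have h1 : c ∈ Q.comap φ := hQm ▸ hcm h
      rw [Ideal.mem_comap, hc] at h1
      exact (‹Q.IsMaximal›.isPrime).mem_of_pow_mem _ h1
  have hev : ∀ i, ev1 D (decompose 𝒜 x i : R) = IsLocalRing.residue _ (r i) := by
    intro i
    rw [ev1, RingHom.comp_apply, toDual_of_mem D i _ (SetLike.coe_mem _)]
    by_cases h : (D.N : ℤ) ∣ i
    · simp only [r, dif_pos h]
      rw [compHom_pos D i (i / D.N) (Int.ediv_mul_cancel h).symm, AlgHom.toRingHom_eq_coe,
        RingHom.coe_coe, map_mul]
      have hu : ∀ z : ℤ, TrivSqZeroExt.fstHom (Kres D) (Kres D) (Kres D)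
          ((onePlusEps (Kres D) ^ z : (DualNumber (Kres D))ˣ) : DualNumber (Kres D)) = 1 := by
        intro z
        have h1 : Units.map (TrivSqZeroExt.fstHom (Kres D) (Kres D) (Kres D)).toMonoidHom
            (onePlusEps (Kres D)) = 1 := Units.ext (by simp [onePlusEps])
        have h2 := congrArg Units.val (map_zpow (Units.map
          (TrivSqZeroExt.fstHom (Kres D) (Kres D) (Kres D)).toMonoidHom) (onePlusEps (Kres D)) z)
        rw [h1, one_zpow] at h2
        exact h2
      rw [hu, mul_one]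
      rfl
    · simp only [r, dif_neg h]
      rw [compHom_neg D i h, map_zero, map_zero]
  set S := (decompose 𝒜 x).support
  have hsum : (∑ i ∈ S, r i) ∈ IsLocalRing.maximalIdeal (GrLC.deg0 𝒜) := by
    rw [← IsLocalRing.residue_eq_zero_iff, map_sum, ← hy]
    conv_rhs => rw [← DirectSum.sum_support_decompose 𝒜 x, map_sum]
    exact Finset.sum_congr rfl fun i _ => (hev i).symm
  rw [← hQm, Ideal.mem_comap, map_sum] at hsum
  have hsub : ψ x - ∑ i ∈ S, φ (r i) ∈ Q := by
    conv in ψ x => rw [← DirectSum.sum_support_decompose 𝒜 x, map_sum]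
    rw [← Finset.sum_sub_distrib]
    exact Q.sum_mem fun i _ => hterm i
  simpa using Q.add_mem hsub hsum

theorem isRegularLocalRing_quot1 [IsRegularRing R] : IsRegularLocalRing (Quot1 D) := by
  have hmax : (RingHom.ker (evQ D)).IsMaximal :=
    RingHom.ker_isMaximal_of_surjective _ (evQ_surjective D)
  haveI hloc : IsLocalRing (Quot1 D) := IsLocalRing.of_unique_max_ideal
    ⟨_, hmax, fun Q hQ => (hmax.eq_of_le hQ.ne_top (by haveI := hQ; exact ker_evQ_le D Q)).symm⟩
  set M := IsLocalRing.maximalIdeal (Quot1 D) with hM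
  have hM' : M = RingHom.ker (evQ D) := (IsLocalRing.eq_maximalIdeal hmax).symm
  have key : IsRegularLocalRing (Localization.AtPrime M) := by
    refine CycCovLib.isRegular_of_not_mem_sq (Ideal.Quotient.mk _) Ideal.Quotient.mk_surjective
      ((D.t : R) - 1) (Ideal.mk_ker) M fun x hx hsq => ?_
    have hle : M.comap (Ideal.Quotient.mk _) ≤
        Ideal.comap (toDual D) (RingHom.ker (TrivSqZeroExt.fstHom (Kres D) (Kres D) (Kres D)).toRingHom) := by
      intro y hy
      rw [hM', Ideal.mem_comap, RingHom.mem_ker, evQ, Ideal.Quotient.lift_mk] at hy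
      exact hy
    have h0 : toDual D (x * ((D.t : R) - 1)) = 0 := by
      have h1 : x * ((D.t : R) - 1) ∈ Ideal.comap (toDual D) ⊥ := by
        refine (Ideal.pow_right_mono hle 2).trans ?_ hsq
        rw [pow_two, Ideal.mul_le]
        intro a ha b hb
        rw [Ideal.mem_comap, Ideal.mem_bot, map_mul]
        rw [Ideal.mem_comap, RingHom.mem_ker] at ha hb
        change (toDual D a).fst = 0 at ha
        change (toDual D b).fst = 0 at hb
        ext
        · simp [ha]
        · simp [ha, hb]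
      exact h1
    refine hx ?_
    rw [hM', Ideal.mem_comap, RingHom.mem_ker, evQ, Ideal.Quotient.lift_mk]
    rw [map_mul, map_sub, map_one, toDual_t, add_sub_cancel_left] at h0
    have h2 := congrArg TrivSqZeroExt.snd h0
    simp at h2
    exact h2
  exact IsRegularLocalRing.of_ringEquiv
    (IsLocalization.atUnits (Quot1 D) M.primeCompl (S := Localization.AtPrime M) fun z hz =>
      IsLocalRing.notMem_maximalIdeal.mp hz).toRingEquiv.symm

/-- The comparison `R → (R/(t-1))[T;T⁻¹]` on degree `i`. -/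
noncomputable def lauHom (i : ℤ) : 𝒜 i →+ (Quot1 D)[T;T⁻¹] where
  toFun a := LaurentPolynomial.C (Ideal.Quotient.mk _ (a : R)) * LaurentPolynomial.T i
  map_zero' := by simp
  map_add' a b := by simp [add_mul]

/-- The comparison `R → (R/(t-1))[T;T⁻¹]`. -/
noncomputable def toLau : R →+* (Quot1 D)[T;T⁻¹] :=
  (DirectSum.toSemiring (lauHom D)
    (by simp [lauHom, LaurentPolynomial.T_zero])
    (fun {i j} a b => by
      simp only [lauHom, AddMonoidHom.coe_mk, ZeroHom.coe_mk, SetLike.coe_gMul, map_mul,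
        LaurentPolynomial.T_add]
      ring)).comp
    (DirectSum.decomposeRingEquiv 𝒜).toRingHom

theorem toLau_of_mem (i : ℤ) (a : R) (ha : a ∈ 𝒜 i) :
    toLau D a = LaurentPolynomial.C (Ideal.Quotient.mk _ a) * LaurentPolynomial.T i := by
  rw [toLau, RingHom.comp_apply]
  erw [DirectSum.decompose_of_mem 𝒜 ha, DirectSum.toSemiring_of]
  rfl

/-- The root extension. -/
abbrev RootExt : Type u := AdjoinRoot (Polynomial.X ^ D.N - Polynomial.C (D.t : R))

theorem root_pow : AdjoinRoot.root (Polynomial.X ^ D.N - Polynomial.C (D.t : R)) ^ D.N =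
    AdjoinRoot.of _ (D.t : R) := by
  have h := AdjoinRoot.eval₂_root (Polynomial.X ^ D.N - Polynomial.C (D.t : R))
  rwa [Polynomial.eval₂_sub, Polynomial.eval₂_X_pow, Polynomial.eval₂_C, sub_eq_zero] at h

/-- The root, as a unit. -/
noncomputable def rootUnit : (RootExt D)ˣ :=
  IsUnit.unit (a := AdjoinRoot.root _) ((isUnit_pow_iff D.hN.ne').mp (by
    rw [root_pow]; exact (D.t.isUnit).map _))

/-- On degree `i`: `a ↦ a U^(-i)`. -/
noncomputable def dehomHom (i : ℤ) : 𝒜 i →+ RootExt D where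
  toFun a := AdjoinRoot.of _ (a : R) * ((rootUnit D ^ (-i) : (RootExt D)ˣ) : RootExt D)
  map_zero' := by simp
  map_add' a b := by simp [add_mul]

/-- `R → R[U]/(U^N - t)`, dehomogenised. -/
noncomputable def dehom : R →+* RootExt D :=
  (DirectSum.toSemiring (dehomHom D)
    (by simp [dehomHom])
    (fun {i j} a b => by
      simp only [dehomHom, AddMonoidHom.coe_mk, ZeroHom.coe_mk, SetLike.coe_gMul, map_mul,
        neg_add, zpow_add, Units.val_mul]
      ring)).comp
    (DirectSum.decomposeRingEquiv 𝒜).toRingHom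

theorem dehom_of_mem (i : ℤ) (a : R) (ha : a ∈ 𝒜 i) :
    dehom D a = AdjoinRoot.of _ a * ((rootUnit D ^ (-i) : (RootExt D)ˣ) : RootExt D) := by
  rw [dehom, RingHom.comp_apply]
  erw [DirectSum.decompose_of_mem 𝒜 ha, DirectSum.toSemiring_of]
  rfl

theorem dehom_span : Ideal.span {(D.t : R) - 1} ≤ RingHom.ker (dehom D) := by
  rw [Ideal.span_singleton_le_iff_mem, RingHom.mem_ker, map_sub, map_one,
    dehom_of_mem D D.N _ D.ht, sub_eq_zero, ← root_pow, zpow_neg, zpow_natCast]
  show ((rootUnit D : (RootExt D)ˣ) : RootExt D) ^ D.N * _ = 1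
  rw [← Units.val_pow_eq_pow_val, Units.mul_inv]

theorem nonempty_ringEquiv : Nonempty (RootExt D ≃+* (Quot1 D)[T;T⁻¹]) := by
  classical
  have hroot : (Polynomial.X ^ D.N - Polynomial.C (D.t : R)).eval₂ (toLau D)
      (LaurentPolynomial.T 1) = 0 := by
    rw [Polynomial.eval₂_sub, Polynomial.eval₂_X_pow, Polynomial.eval₂_C, LaurentPolynomial.T_pow,
      toLau_of_mem D D.N _ D.ht]
    have h1 : Ideal.Quotient.mk (Ideal.span {(D.t : R) - 1}) (D.t : R) = 1 := by
      simpa using mk_zpow D 1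
    rw [h1, map_one, one_mul, mul_one, sub_self]
  let f : RootExt D →+* (Quot1 D)[T;T⁻¹] :=
    AdjoinRoot.lift (toLau D) (LaurentPolynomial.T 1) hroot
  let g : (Quot1 D)[T;T⁻¹] →+* RootExt D :=
    LaurentPolynomial.eval₂ (Ideal.Quotient.lift _ (dehom D) fun _ hx => dehom_span D hx)
      (rootUnit D)
  have hgT : ∀ n : ℤ, g (LaurentPolynomial.T n) = ((rootUnit D ^ n : (RootExt D)ˣ) : RootExt D) :=
    fun n => LaurentPolynomial.eval₂_T _ _ n
  have hfu : ∀ n : ℤ, f ((rootUnit D ^ n : (RootExt D)ˣ) : RootExt D) = LaurentPolynomial.T n := by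
    intro n
    have hf : f (rootUnit D : RootExt D) = LaurentPolynomial.T 1 := AdjoinRoot.lift_root hroot
    have hnat : ∀ m : ℕ, f ((rootUnit D ^ (m : ℤ) : (RootExt D)ˣ) : RootExt D) =
        LaurentPolynomial.T (m : ℤ) := fun m => by
      rw [zpow_natCast, Units.val_pow_eq_pow_val, map_pow, hf, LaurentPolynomial.T_pow, mul_one]
    rcases n with m | m
    · exact hnat m
    · refine (LaurentPolynomial.isUnit_T ((m + 1 : ℕ) : ℤ)).mul_left_inj.mp ?_
      conv_lhs => rw [← hnat (m + 1), ← map_mul, ← Units.val_mul, ← zpow_add,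
        show Int.negSucc m + ((m + 1 : ℕ) : ℤ) = 0 by omega, zpow_zero, Units.val_one, map_one]
      rw [← LaurentPolynomial.T_add, show Int.negSucc m + ((m + 1 : ℕ) : ℤ) = 0 by omega,
        LaurentPolynomial.T_zero]
  refine ⟨RingEquiv.ofRingHom f g ?_ ?_⟩
  · refine RingHom.ext fun z => ?_
    induction z using LaurentPolynomial.induction_on' with
    | add a b ha hb => simp only [map_add, ha, hb]
    | C_mul_T n c =>
      obtain ⟨x, rfl⟩ := Ideal.Quotient.mk_surjective c
      simp only [RingHom.comp_apply, RingHom.id_apply, map_mul]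
      rw [hgT, hfu]
      congr 1
      rw [show g (LaurentPolynomial.C (Ideal.Quotient.mk _ x)) = dehom D x from
        LaurentPolynomial.eval₂_C _ _ _]
      rw [← DirectSum.sum_support_decompose 𝒜 x, map_sum, map_sum, map_sum, map_sum]
      refine Finset.sum_congr rfl fun i _ => ?_
      rw [dehom_of_mem D i _ (SetLike.coe_mem _), map_mul, hfu]
      rw [show f (AdjoinRoot.of _ ((decompose 𝒜 x i : R))) = toLau D (decompose 𝒜 x i : R) from
        AdjoinRoot.lift_of hroot, toLau_of_mem D i _ (SetLike.coe_mem _), mul_assoc,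
        ← LaurentPolynomial.T_add, add_neg_cancel, LaurentPolynomial.T_zero, mul_one]
  · refine RingHom.ext fun z => ?_
    induction z using AdjoinRoot.induction_on with
    | ih P =>
      induction P using Polynomial.induction_on' with
      | add a b ha hb => simp only [map_add, ha, hb]
      | monomial n c =>
        rw [← Polynomial.C_mul_X_pow_eq_monomial]
        simp only [map_mul, map_pow, AdjoinRoot.mk_C, AdjoinRoot.mk_X, RingHom.comp_apply,
          RingHom.id_apply]
        rw [show f (AdjoinRoot.of _ c) = toLau D c from AdjoinRoot.lift_of hroot,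
          show f (AdjoinRoot.root _) = LaurentPolynomial.T 1 from AdjoinRoot.lift_root hroot, hgT]
        congr 1
        · rw [← DirectSum.sum_support_decompose 𝒜 c, map_sum, map_sum, map_sum]
          refine Finset.sum_congr rfl fun i _ => ?_
          rw [toLau_of_mem D i _ (SetLike.coe_mem _), map_mul, hgT,
            show g (LaurentPolynomial.C (Ideal.Quotient.mk _ (decompose 𝒜 c i : R))) =
              dehom D (decompose 𝒜 c i : R) from LaurentPolynomial.eval₂_C _ _ _,
            dehom_of_mem D i _ (SetLike.coe_mem _), mul_assoc, ← Units.val_mul, ← zpow_add,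
            neg_add_cancel, zpow_zero, Units.val_one, mul_one]
        · rw [zpow_one]
          rfl

theorem isRegular_rootExt [IsRegularRing R] (q : Ideal (RootExt D)) [q.IsPrime] :
    IsRegularLocalRing (Localization.AtPrime q) := by
  haveI := isRegularLocalRing_quot1 D
  haveI : IsRegularRing (Quot1 D) :=
    { isRegularLocalRing_localization := fun p _ => S0564.result (Quot1 D) p }
  obtain ⟨e⟩ := nonempty_ringEquiv D
  haveI : IsNoetherianRing (Quot1 D)[T;T⁻¹] :=
    IsLocalization.isNoetherianRing (Submonoid.powers (Polynomial.X : Polynomial (Quot1 D))) _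
      inferInstance
  haveI : IsRegularRing (Quot1 D)[T;T⁻¹] :=
    { isRegularLocalRing_localization := fun P _ => by
        haveI := IsLocalization.isLocalization_isLocalization_atPrime_isLocalization
          (Submonoid.powers (Polynomial.X : Polynomial (Quot1 D))) (Localization.AtPrime P) P
        exact IsRegularLocalRing.of_ringEquiv
          (R := Localization.AtPrime (P.comap (algebraMap (Polynomial (Quot1 D)) _)))
          (IsLocalization.algEquiv (P.comap (algebraMap (Polynomial (Quot1 D)) _)).primeCompl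
            (Localization.AtPrime (P.comap (algebraMap (Polynomial (Quot1 D)) _)))
            (Localization.AtPrime P)).toRingEquiv }
  haveI := IsRegularRing.of_ringEquiv e.symm
  exact IsRegularRing.isRegularLocalRing_localization q

end Groth.Agent.GrRegLib
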